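import Mathlib
import Groth.Agent.DRingLib.AmplitudeBC
import Groth.Agent.TwoTermLib.Nil

/-!
# Vanishing of the homology of `P ⊗ N`: gluing along an element
-/

set_option autoImplicit false
set_option maxHeartbeats 800000

universe u

open CategoryTheory CategoryTheory.Limits HomologicalComplex TensorProduct

attribute [local instance] HasDerivedCategory.standard

namespace TorDescLib



variable {R : Type u} [CommRing R] (P : CochainComplex (ModuleCat.{u} R) ℤ)

/-- The degree-`i` homology of `P ⊗ N` vanishes. -/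
def Van (i : ℤ) (N : Type u) [AddCommGroup N] [Module R N] : Prop :=
  IsZero ((KFlatLib.tensorN P (ModuleCat.of R N)).homology i)

variable {P}

/-- `P ⊗ f` on complexes. -/
noncomputable def tmap {N₁ N₂ : Type u} [AddCommGroup N₁] [Module R N₁] [AddCommGroup N₂] [Module R N₂]
    (f : N₁ →ₗ[R] N₂) :
    KFlatLib.tensorN P (ModuleCat.of R N₁) ⟶ KFlatLib.tensorN P (ModuleCat.of R N₂) :=
  (NatTrans.mapHomologicalComplex ((MonoidalCategory.tensoringRight (ModuleCat.{u} R)).map (ModuleCat.ofHom f))
    (ComplexShape.up ℤ)).app P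

theorem tmap_comp {N₁ N₂ N₃ : Type u} [AddCommGroup N₁] [Module R N₁] [AddCommGroup N₂] [Module R N₂]
    [AddCommGroup N₃] [Module R N₃] (f : N₁ →ₗ[R] N₂) (g : N₂ →ₗ[R] N₃) :
    tmap (P := P) (g.comp f) = tmap f ≫ tmap g := by
  ext n : 1
  apply ModuleCat.hom_ext
  exact TensorProduct.ext' fun x y => rfl

theorem tmap_tmul {N₁ N₂ : Type u} [AddCommGroup N₁] [Module R N₁] [AddCommGroup N₂] [Module R N₂]
    (f : N₁ →ₗ[R] N₂) (n : ℤ) (x : P.X n) (y : N₁) :
    ((tmap (P := P) f).f n).hom (x ⊗ₜ y) = x ⊗ₜ f y := rfl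

section Ses

variable (hP : ∀ n, Module.Flat R (P.X n))
  {N₁ N₂ N₃ : Type u} [AddCommGroup N₁] [Module R N₁] [AddCommGroup N₂] [Module R N₂]
  [AddCommGroup N₃] [Module R N₃] (f : N₁ →ₗ[R] N₂) (g : N₂ →ₗ[R] N₃)
  (hf : Function.Injective f) (hfg : Function.Exact f g) (hg : Function.Surjective g)

include hP hf hfg hg

theorem exists_ses : ∃ h : tmap (P := P) f ≫ tmap g = 0,
    (ShortComplex.mk (tmap (P := P) f) (tmap g) h).ShortExact := by
  have h0 : tmap (P := P) f ≫ tmap g = 0 := by
    ext n : 1
    apply ModuleCat.hom_ext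
    refine TensorProduct.ext' fun x y => ?_
    show x ⊗ₜ[R] g (f y) = 0
    rw [hfg.apply_apply_eq_zero, TensorProduct.tmul_zero]
  refine ⟨h0, ?_⟩
  rw [HomologicalComplex.shortExact_iff_degreewise_shortExact]
  intro n
  haveI := hP n
  have hex := Module.Flat.lTensor_exact (P.X n) (R := R) (f := f) (g := g) hfg
  refine { exact := ?_, mono_f := ?_, epi_g := ?_ }
  · rw [CategoryTheory.ShortComplex.ShortExact.moduleCat_exact_iff_function_exact]
    exact hex
  · exact (ModuleCat.mono_iff_injective _).2
      (Module.Flat.lTensor_preserves_injective_linearMap _ hf)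
  · exact (ModuleCat.epi_iff_surjective _).2 (LinearMap.lTensor_surjective _ hg)

theorem van_mid (i : ℤ) (h₁ : Van P i N₁) (h₃ : Van P i N₃) : Van P i N₂ := by
  obtain ⟨h0, hT⟩ := exists_ses hP f g hf hfg hg
  exact (hT.homology_exact₂ i).isZero_X₂ (h₁.eq_of_src _ _) (h₃.eq_of_tgt _ _)

theorem mono_right (i : ℤ) (h₁ : Van P i N₁) :
    Mono (homologyMap (tmap (P := P) g) i) := by
  obtain ⟨h0, hT⟩ := exists_ses hP f g hf hfg hg
  exact (hT.homology_exact₂ i).mono_g (h₁.eq_of_src _ _)

theorem mono_left (i j : ℤ) (hij : i + 1 = j) (h₃ : Van P i N₃) :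
    Mono (homologyMap (tmap (P := P) f) j) := by
  obtain ⟨h0, hT⟩ := exists_ses hP f g hf hfg hg
  exact (hT.homology_exact₁ i j hij).mono_g (h₃.eq_of_src _ _)

end Ses

theorem van_of_subsingleton (i : ℤ) (N : Type u) [AddCommGroup N] [Module R N] [Subsingleton N] :
    Van P i N := by
  refine (HomologicalComplex.exactAt_iff_isZero_homology _ i).mp
    (ShortComplex.exact_of_isZero_X₂ _ ?_)
  exact @ModuleCat.isZero_of_subsingleton R _ (ModuleCat.of R (TensorProduct R (P.X i) N))
    (subsingleton_of_forall_eq 0 fun z => by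
      induction z using TensorProduct.induction_on with
      | zero => rfl
      | tmul x y => rw [Subsingleton.elim y 0, TensorProduct.tmul_zero]
      | add a b ha hb => rw [ha, hb, add_zero])

theorem tmap_smul_id (N : Type u) [AddCommGroup N] [Module R N] (s : R) :
    tmap (P := P) (s • (LinearMap.id : N →ₗ[R] N)) = s • 𝟙 _ := by
  ext n : 1
  apply ModuleCat.hom_ext
  refine TensorProduct.ext' fun x y => ?_
  show x ⊗ₜ[R] (s • y) = s • (x ⊗ₜ[R] y)
  rw [TensorProduct.tmul_smul]

/-- Multiplication by `s` is injective on the degree-`j` homology of `P ⊗ N` if the degree-`j`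
homology with `N[s]` and the degree-`i` homology with `N / sN` vanish, `i + 1 = j`. -/
theorem smul_eq_zero_iff (hP : ∀ n, Module.Flat R (P.X n)) (N : Type u) [AddCommGroup N] [Module R N]
    (s : R) (i j : ℤ) (hij : i + 1 = j)
    (hker : Van P j (LinearMap.ker (s • (LinearMap.id : N →ₗ[R] N))))
    (hcok : Van P i (N ⧸ LinearMap.range (s • (LinearMap.id : N →ₗ[R] N))))
    (x : (KFlatLib.tensorN P (ModuleCat.of R N)).homology j) (hx : s • x = 0) : x = 0 := by
  let m : N →ₗ[R] N := s • LinearMap.id
  haveI := mono_right hP (LinearMap.ker m).subtype m.rangeRestrict Subtype.val_injective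
    (LinearMap.exact_iff.2 (by rw [LinearMap.ker_rangeRestrict, Submodule.range_subtype]))
    m.surjective_rangeRestrict j hker
  haveI := mono_left hP (LinearMap.range m).subtype (LinearMap.range m).mkQ Subtype.val_injective
    (LinearMap.exact_subtype_mkQ _) (Submodule.mkQ_surjective _) i j hij hcok
  have hcomp : homologyMap (tmap (P := P) m.rangeRestrict) j ≫
      homologyMap (tmap (P := P) (LinearMap.range m).subtype) j =
      s • 𝟙 ((KFlatLib.tensorN P (ModuleCat.of R N)).homology j) := by
    rw [← homologyMap_comp, ← tmap_comp,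
      show (LinearMap.range m).subtype.comp m.rangeRestrict = m from LinearMap.ext fun _ => rfl,
      tmap_smul_id]
    have h1 : (shortComplexFunctor (ModuleCat.{u} R) (ComplexShape.up ℤ) j).map
        (s • 𝟙 (KFlatLib.tensorN P (ModuleCat.of R N))) = s • 𝟙 _ := by
      ext <;> rfl
    show ShortComplex.homologyMap ((shortComplexFunctor (ModuleCat.{u} R) (ComplexShape.up ℤ) j).map _) = _
    rw [h1, ShortComplex.homologyMap_smul, ShortComplex.homologyMap_id]
    rfl
  haveI : Mono (s • 𝟙 ((KFlatLib.tensorN P (ModuleCat.of R N)).homology j)) := hcomp ▸ mono_comp _ _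
  refine (ModuleCat.mono_iff_injective (s • 𝟙 ((KFlatLib.tensorN P (ModuleCat.of R N)).homology j))).1
    inferInstance ?_
  rw [map_zero]
  exact hx

/-- Vanishing can be checked after inverting `s` when `s` is injective on homology. -/
theorem van_of_away (hP : ∀ n, Module.Flat R (P.X n)) (N : Type u) [AddCommGroup N] [Module R N]
    (s : R) (i j : ℤ) (hij : i + 1 = j)
    (hker : Van P j (LinearMap.ker (s • (LinearMap.id : N →ₗ[R] N))))
    (hcok : Van P i (N ⧸ LinearMap.range (s • (LinearMap.id : N →ₗ[R] N))))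
    (hloc : Van P j (Localization.Away s ⊗[R] N)) : Van P j N := by
  let φ := algebraMap R (Localization.Away s)
  have hφ : φ.Flat := RingHom.flat_algebraMap_iff.2 (IsLocalization.flat _ (Submonoid.powers s))
  obtain ⟨e⟩ := Groth.Agent.DRingLib.exists_homology_extCx_iso φ hφ (KFlatLib.tensorN P (ModuleCat.of R N)) j
  have h1 : IsZero ((KFlatLib.tensorN ((Groth.Agent.DRingLib.extCx φ).obj P)
      (ModuleCat.of (Localization.Away s) (Localization.Away s ⊗[R] N))).homology j) :=
    (Groth.Agent.TwoTermLib.Nil.isZero_extCx_tensorN_iff φ P (Localization.Away s ⊗[R] N)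
      (fun r x => algebraMap_smul (Localization.Away s) r x) j).2 hloc
  have h2 : IsZero (((Groth.Agent.DRingLib.extCx φ).obj (KFlatLib.tensorN P (ModuleCat.of R N))).homology j) :=
    h1.of_iso ((homologyFunctor _ _ j).mapIso ((Groth.Agent.DRingLib.extCxTensorNIso φ P (ModuleCat.of R N)).symm ≪≫
      ((MonoidalCategory.tensoringRight (ModuleCat.{u} (Localization.Away s))).mapIso
        (Groth.Agent.DRingLib.extendScalarsEquiv (A := R) (B := Localization.Away s) (ModuleCat.of R N)).toModuleIso
        |> fun a => (NatIso.mapHomologicalComplex a (ComplexShape.up ℤ)).app _)))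
  let H := (KFlatLib.tensorN P (ModuleCat.of R N)).homology j
  have h3 : Subsingleton ((ModuleCat.extendScalars.{u, u, u} φ).obj H) :=
    ModuleCat.subsingleton_of_isZero (h2.of_iso e.symm)
  have h4 : Subsingleton (Localization.Away s ⊗[R] H) :=
    (Groth.Agent.DRingLib.extendScalarsEquiv (A := R) (B := Localization.Away s) H).toEquiv.symm.subsingleton
  have : Subsingleton H := subsingleton_of_forall_eq 0 fun x => by
    haveI : IsLocalizedModule (Submonoid.powers s) (TensorProduct.mk R (Localization.Away s) H 1) :=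
      (isLocalizedModule_iff_isBaseChange (Submonoid.powers s) (Localization.Away s) _).2
        (TensorProduct.isBaseChange R H _)
    obtain ⟨⟨_, n, rfl⟩, hn⟩ := IsLocalizedModule.exists_of_eq (S := Submonoid.powers s)
      (f := TensorProduct.mk R (Localization.Away s) H 1) (x₁ := x) (x₂ := 0) (Subsingleton.elim _ _)
    simp only [Submonoid.smul_def, smul_zero] at hn
    induction n with
    | zero => simpa using hn
    | succ n ih =>
      rw [pow_succ', mul_smul] at hn
      exact ih (smul_eq_zero_iff hP N s i j hij hker hcok _ hn)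
  exact ModuleCat.isZero_of_subsingleton _

end TorDescLib
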