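import Mathlib
import Groth.Agent.TorDescLib.Van
import Groth.Agent.FlatLib.GenericFree

/-!
# Flatness in degree zero descends along surjective maps of finite presentation
-/

set_option autoImplicit false
set_option maxHeartbeats 1600000
set_option synthInstance.maxHeartbeats 400000

universe u

open CategoryTheory CategoryTheory.Limits HomologicalComplex TensorProduct

attribute [local instance] HasDerivedCategory.standard
attribute [local instance] Algebra.TensorProduct.rightAlgebra

namespace TorDescLib

/-- A flat family whose spectra jointly cover detects zero modules. -/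
theorem detectsZero_of_cover {C : Type u} [CommRing C] {ι : Type} [Finite ι] (D : ι → Type u)
    [∀ j, CommRing (D j)] [∀ j, Algebra C (D j)] [∀ j, Module.Flat C (D j)]
    (h : ∀ m : Ideal C, m.IsPrime → ∃ (j : ι) (I : Ideal (D j)), I ≠ ⊤ ∧ m.map (algebraMap C (D j)) ≤ I) :
    Groth.Agent.DRingLib.DetectsZero (R := C) D := by
  intro M _ _ hM
  refine subsingleton_of_forall_eq 0 fun x => by_contra fun hx => ?_
  let φ : C →ₗ[C] M := LinearMap.toSpanSingleton C M x
  have hne : LinearMap.ker φ ≠ ⊤ := fun hk => hx (by
    have h1 : (1 : C) ∈ LinearMap.ker φ := hk ▸ Submodule.mem_top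
    simpa [φ] using h1)
  obtain ⟨m, hm, hle⟩ := Ideal.exists_le_maximal (LinearMap.ker φ) hne
  obtain ⟨j, I, hI, hmI⟩ := h m hm.isPrime
  let ψ : (C ⧸ LinearMap.ker φ) →ₗ[C] M := (LinearMap.ker φ).liftQ φ le_rfl
  have hψ : Function.Injective ψ := LinearMap.ker_eq_bot.1 (Submodule.ker_liftQ_eq_bot _ _ _ le_rfl)
  haveI := hM j
  have hinj : Function.Injective (ψ.lTensor (D j)) :=
    Module.Flat.lTensor_preserves_injective_linearMap _ hψ
  haveI : Subsingleton (D j ⊗[C] (C ⧸ LinearMap.ker φ)) := hinj.subsingleton
  haveI : Subsingleton (D j ⧸ (LinearMap.ker φ) • (⊤ : Submodule C (D j))) :=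
    (TensorProduct.tensorQuotEquivQuotSMul (D j) (LinearMap.ker φ)).symm.toEquiv.subsingleton
  have h1 : (1 : D j) ∈ (LinearMap.ker φ) • (⊤ : Submodule C (D j)) :=
    (Submodule.Quotient.mk_eq_zero _).1 (Subsingleton.elim _ _)
  rw [Ideal.smul_top_eq_map] at h1
  exact hI ((Ideal.eq_top_iff_one _).2 (hmI (Ideal.map_mono hle h1)))

/-- Homology vanishes on modules over a ring whose base changes to a cover are flat. -/
theorem van_of_cover {R : Type u} [CommRing R] (P : CochainComplex (ModuleCat.{u} R) ℤ) (i : ℤ)
    {C : Type u} [CommRing C] [Algebra R C] {ι : Type} [Finite ι] (B : ι → Type u)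
    [∀ j, CommRing (B j)] [∀ j, Algebra R (B j)]
    (hflat : ∀ j, Module.Flat C (C ⊗[R] B j))
    (hcov : ∀ p : Ideal R, p.IsPrime → ∃ (j : ι) (q : Ideal (B j)), q.IsPrime ∧ q.comap (algebraMap R (B j)) = p)
    (hB : ∀ (j : ι) (N : Type u) [AddCommGroup N] [Module R N] [Module (B j) N],
      (∀ (r : R) (x : N), algebraMap R (B j) r • x = r • x) → Van P i N)
    (N : Type u) [AddCommGroup N] [Module R N] [Module C N] [IsScalarTower R C N] : Van P i N := by
  let D : ι → Type u := fun j => C ⊗[R] B j
  haveI : ∀ j, Module.Flat C (D j) := hflat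
  have hdet : Groth.Agent.DRingLib.DetectsZero (R := C) D := by
    refine detectsZero_of_cover D fun m hm => ?_
    haveI := hm
    obtain ⟨j, q, hq, hqp⟩ := hcov (m.comap (algebraMap R C)) inferInstance
    haveI := hq
    let p := m.comap (algebraMap R C)
    let u : p.ResidueField →+* m.ResidueField := Ideal.ResidueField.map p m (algebraMap R C) rfl
    let v : p.ResidueField →+* q.ResidueField := Ideal.ResidueField.map p q (algebraMap R (B j)) hqp.symm
    letI := u.toAlgebra
    letI := v.toAlgebra
    let T := m.ResidueField ⊗[p.ResidueField] q.ResidueField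
    obtain ⟨M', hM'⟩ := Ideal.exists_maximal T
    let c : C →+* T ⧸ M' := (Ideal.Quotient.mk M').comp
      ((Algebra.TensorProduct.includeLeftRingHom (R := p.ResidueField)).comp (algebraMap C m.ResidueField))
    let b : B j →+* T ⧸ M' := (Ideal.Quotient.mk M').comp
      ((Algebra.TensorProduct.includeRight (R := p.ResidueField) (A := m.ResidueField)).toRingHom.comp
        (algebraMap (B j) q.ResidueField))
    have hcb : ∀ r, c (algebraMap R C r) = b (algebraMap R (B j) r) := fun r => by
      refine congrArg (Ideal.Quotient.mk M') ?_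
      show (algebraMap C m.ResidueField (algebraMap R C r)) ⊗ₜ[p.ResidueField] (1 : q.ResidueField) =
        (1 : m.ResidueField) ⊗ₜ[p.ResidueField] (algebraMap (B j) q.ResidueField (algebraMap R (B j) r))
      have hu : algebraMap C m.ResidueField (algebraMap R C r) = u (algebraMap R p.ResidueField r) :=
        (Ideal.ResidueField.map_algebraMap _ _ _ _ _).symm
      have hv : algebraMap (B j) q.ResidueField (algebraMap R (B j) r) = v (algebraMap R p.ResidueField r) :=
        (Ideal.ResidueField.map_algebraMap _ _ _ _ _).symm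
      rw [hu, hv]
      exact Algebra.TensorProduct.tmul_one_eq_one_tmul _
    have hc : ∀ r, c (algebraMap R C r) = algebraMap R (T ⧸ M') r := fun r => by
      show Ideal.Quotient.mk M' ((algebraMap C m.ResidueField (algebraMap R C r)) ⊗ₜ[p.ResidueField] (1 : q.ResidueField)) = _
      rw [← IsScalarTower.algebraMap_apply R C m.ResidueField r]
      rfl
    let cA : C →ₐ[R] T ⧸ M' := { c with commutes' := hc }
    let bA : B j →ₐ[R] T ⧸ M' := { b with commutes' := fun r => (hcb r).symm.trans (hc r) }
    let f : C ⊗[R] B j →ₐ[R] T ⧸ M' := Algebra.TensorProduct.lift cA bA fun _ _ => Commute.all _ _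
    refine ⟨j, RingHom.ker f.toRingHom, RingHom.ker_ne_top _, Ideal.map_le_iff_le_comap.2 fun x hx => ?_⟩
    show Algebra.TensorProduct.lift cA bA (fun _ _ => Commute.all _ _) (x ⊗ₜ[R] (1 : B j)) = 0
    rw [Algebra.TensorProduct.lift_tmul, map_one, mul_one]
    show c x = 0
    have : algebraMap C m.ResidueField x = 0 := Ideal.algebraMap_residueField_eq_zero.2 hx
    show Ideal.Quotient.mk M' ((algebraMap C m.ResidueField x) ⊗ₜ[p.ResidueField] (1 : q.ResidueField)) = 0
    rw [this, TensorProduct.zero_tmul, map_zero]
  let P' := (Groth.Agent.DRingLib.extCx (algebraMap R C)).obj P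
  have h : IsZero ((KFlatLib.tensorN P' (ModuleCat.of C N)).homology i) := by
    refine Groth.Agent.DRingLib.isZero_homology_of_family hdet _ i fun j => ?_
    let φ := algebraMap C (D j)
    let W : Type u := D j ⊗[C] N
    letI : Module R W := Module.compHom W (algebraMap R C)
    letI : Module (B j) W := Module.compHom W (Algebra.TensorProduct.includeRight (R := R) (A := C) (B := B j)).toRingHom
    have hW : Van P i W := hB j W fun r x => by
      show ((1 : C) ⊗ₜ[R] algebraMap R (B j) r : D j) • x = algebraMap R C r • x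
      rw [← algebraMap_smul (D j) (algebraMap R C r) x]
      exact congrArg (fun t : D j => t • x) (Algebra.TensorProduct.tmul_one_eq_one_tmul r).symm
    have h1 : IsZero ((KFlatLib.tensorN P' (ModuleCat.of C W)).homology i) :=
      (Groth.Agent.TwoTermLib.Nil.isZero_extCx_tensorN_iff (algebraMap R C) P W (fun r x => rfl) i).2 hW
    have h2 : IsZero ((KFlatLib.tensorN ((Groth.Agent.DRingLib.extCx φ).obj P')
        (ModuleCat.of (D j) W)).homology i) :=
      (Groth.Agent.TwoTermLib.Nil.isZero_extCx_tensorN_iff φ P' W (fun r x => algebraMap_smul (D j) r x) i).2 h1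
    exact h2.of_iso ((homologyFunctor _ _ i).mapIso
      ((Groth.Agent.DRingLib.extCxTensorNIso φ P' (ModuleCat.of C N)).symm ≪≫
        ((MonoidalCategory.tensoringRight (ModuleCat.{u} (D j))).mapIso
          (Groth.Agent.DRingLib.extendScalarsEquiv (A := C) (B := D j) (ModuleCat.of C N)).toModuleIso
          |> fun a => (NatIso.mapHomologicalComplex a (ComplexShape.up ℤ)).app _)))
  exact (Groth.Agent.TwoTermLib.Nil.isZero_extCx_tensorN_iff (algebraMap R C) P N
    (fun r x => algebraMap_smul C r x) i).1 h

end TorDescLib
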