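import Mathlib
import Groth.Agent.TorDescLib.Ring

/-!
# Flatness in degree zero descends along surjective families of finite presentation
-/

set_option autoImplicit false
set_option maxHeartbeats 1600000
set_option synthInstance.maxHeartbeats 400000

universe u

open CategoryTheory CategoryTheory.Limits HomologicalComplex TensorProduct

attribute [local instance] HasDerivedCategory.standard

namespace TorDescLib

/-- A noetherian model of finitely many algebras of finite presentation. -/
theorem exists_models {R : Type u} [CommRing R] {ι : Type} [Finite ι] (B : ι → Type u)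
    [∀ j, CommRing (B j)] [∀ j, Algebra R (B j)] [∀ j, Algebra.FinitePresentation R (B j)] :
    ∃ (A₀ : Subalgebra ℤ R), A₀.FG ∧ ∀ j, ∃ (B₀ : Type u) (_ : CommRing B₀) (_ : Algebra A₀ B₀)
      (_ : Algebra.FiniteType A₀ B₀), Nonempty (R ⊗[A₀] B₀ ≃ₐ[R] B j) := by
  classical
  let n := fun j => Algebra.Presentation.ofFinitePresentationVars R (B j)
  let k := fun j => Algebra.Presentation.ofFinitePresentationRels R (B j)
  let P := fun j => Algebra.Presentation.ofFinitePresentation R (B j)
  let s : Set R := ⋃ j, (P j).coeffs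
  have hs : s.Finite := Set.finite_iUnion fun j => (P j).finite_coeffs
  let A₀ := Algebra.adjoin ℤ s
  refine ⟨A₀, Subalgebra.fg_def.2 ⟨s, hs, rfl⟩, fun j => ?_⟩
  haveI : (P j).HasCoeffs A₀ := ⟨fun x hx =>
    ⟨⟨x, Algebra.subset_adjoin (Set.mem_iUnion_of_mem j hx)⟩, rfl⟩⟩
  exact ⟨(P j).ModelOfHasCoeffs A₀, inferInstance, inferInstance, inferInstance,
    ⟨(P j).tensorModelOfHasCoeffsEquiv A₀⟩⟩

/-- Over a noetherian domain finitely many algebras of finite type are flat after inverting one element. -/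
theorem exists_flat {A : Type u} [CommRing A] [IsDomain A] {ι : Type} [Fintype ι] (B : ι → Type u)
    [∀ j, CommRing (B j)] [∀ j, Algebra A (B j)] [∀ j, Algebra.FiniteType A (B j)] :
    ∃ f : A, f ≠ 0 ∧ ∀ j, Module.Flat (Localization.Away f) (Localization.Away f ⊗[A] B j) := by
  classical
  choose f hf hfree using fun j => FlatLib.gfree_of_finite (R := A) (B j) (B j)
  refine ⟨∏ j, f j, Finset.prod_ne_zero_iff.2 fun j _ => hf j, fun j => ?_⟩
  have hu : IsUnit (algebraMap A (Localization.Away (∏ j, f j)) (f j)) :=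
    isUnit_of_dvd_unit (map_dvd _ (Finset.dvd_prod_of_mem f (Finset.mem_univ j)))
      (IsLocalization.Away.algebraMap_isUnit _)
  have := FlatLib.free_tensor_of_isUnit (M := B j) (Localization.Away (∏ j, f j)) hu (hfree j)
  infer_instance

set_option linter.unusedSectionVars false in
/-- The homology of `P ⊗ N` vanishes in negative degrees if it does so for modules over a jointly
surjective family of algebras of finite presentation. -/
theorem van_of_fp_cover {R : Type u} [CommRing R] (P : CochainComplex (ModuleCat.{u} R) ℤ)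
    (hP : ∀ n, Module.Flat R (P.X n)) {ι : Type} [Finite ι] (B : ι → Type u)
    [∀ j, CommRing (B j)] [∀ j, Algebra R (B j)] [∀ j, Algebra.FinitePresentation R (B j)]
    (hcov : ∀ p : Ideal R, p.IsPrime → ∃ (j : ι) (q : Ideal (B j)), q.IsPrime ∧ q.comap (algebraMap R (B j)) = p)
    (hB : ∀ (i : ℤ), i < 0 → ∀ (j : ι) (N : Type u) [AddCommGroup N] [Module R N] [Module (B j) N],
      (∀ (r : R) (x : N), algebraMap R (B j) r • x = r • x) → Van P i N)
    (i : ℤ) (hi : i < 0) (N : Type u) [AddCommGroup N] [Module R N] : Van P i N := by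
  classical
  haveI := Fintype.ofFinite ι
  obtain ⟨A₀, hA₀, hB₀⟩ := exists_models (R := R) B
  choose B₀ iR iA hft e using hB₀
  haveI : Algebra.FiniteType ℤ A₀ := A₀.fg_iff_finiteType.1 hA₀
  haveI : IsNoetherianRing A₀ := Algebra.FiniteType.isNoetherianRing ℤ A₀
  suffices H : ∀ (J : Ideal A₀) (i : ℤ), i < 0 → ∀ (M : Type u) [AddCommGroup M] [Module R M],
      (∀ a ∈ J, ∀ x : M, (algebraMap A₀ R a) • x = 0) → Van P i M from
    H ⊥ i hi N fun a ha x => by rw [Ideal.mem_bot.1 ha, map_zero, zero_smul]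
  intro J
  induction J using WellFoundedGT.induction with
  | _ J ih =>
  intro i hi M _ _ hM
  by_cases htop : J = ⊤
  · haveI : Subsingleton M := subsingleton_of_forall_eq 0 fun x => by
      simpa using hM 1 (htop ▸ Submodule.mem_top) x
    exact van_of_subsingleton i M
  by_cases hprime : J.IsPrime
  swap
  · obtain ⟨a, ha, b, hb, hab⟩ := ((Ideal.not_isPrime_iff).1 hprime).resolve_left htop
    let m : M →ₗ[R] M := (algebraMap A₀ R b) • LinearMap.id
    have hlt : ∀ c ∉ J, J < J ⊔ Ideal.span {c} := fun c hc =>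
      left_lt_sup.2 fun h => hc (h (Ideal.mem_span_singleton_self c))
    refine van_mid hP (LinearMap.range m).subtype (LinearMap.range m).mkQ Subtype.val_injective
      (LinearMap.exact_subtype_mkQ _) (Submodule.mkQ_surjective _) i ?_ ?_
    · refine ih _ (hlt a ha) i hi _ fun c hc x => ?_
      obtain ⟨c₁, hc₁, c₂, hc₂, rfl⟩ := Submodule.mem_sup.1 hc
      obtain ⟨d, rfl⟩ := Ideal.mem_span_singleton.1 hc₂
      obtain ⟨_, y, rfl⟩ := x
      apply Subtype.ext
      show algebraMap A₀ R (c₁ + a * d) • (algebraMap A₀ R b • y) = 0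
      rw [map_add, add_smul, hM c₁ hc₁, zero_add, smul_smul, ← map_mul,
        hM (a * d * b) (by rw [mul_right_comm]; exact J.mul_mem_right _ hab)]
    · refine ih _ (hlt b hb) i hi _ fun c hc x => ?_
      obtain ⟨c₁, hc₁, c₂, hc₂, rfl⟩ := Submodule.mem_sup.1 hc
      obtain ⟨d, rfl⟩ := Ideal.mem_span_singleton.1 hc₂
      obtain ⟨y, rfl⟩ := Submodule.mkQ_surjective _ x
      rw [← map_smul, Submodule.mkQ_apply, Submodule.Quotient.mk_eq_zero]
      refine ⟨algebraMap A₀ R d • y, ?_⟩
      show algebraMap A₀ R b • algebraMap A₀ R d • y = _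
      rw [map_add, add_smul, hM c₁ hc₁, zero_add, smul_smul, ← map_mul]
  haveI := hprime
  haveI : ∀ j, Algebra.FiniteType (A₀ ⧸ J) ((A₀ ⧸ J) ⊗[A₀] B₀ j) := fun j => by
    haveI := hft j
    infer_instance
  obtain ⟨f, hf, hflat⟩ := exists_flat (A := A₀ ⧸ J) (fun j => (A₀ ⧸ J) ⊗[A₀] B₀ j)
  obtain ⟨s, rfl⟩ := Ideal.Quotient.mk_surjective f
  have hs : s ∉ J := fun h => hf (Ideal.Quotient.eq_zero_iff_mem.2 h)
  have hlt : J < J ⊔ Ideal.span {s} := left_lt_sup.2 fun h => hs (h (Ideal.mem_span_singleton_self s))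
  let sR : R := algebraMap A₀ R s
  refine van_of_away hP M sR (i - 1) i (by omega) ?_ ?_ ?_
  · refine ih _ hlt i hi _ fun c hc x => ?_
    obtain ⟨c₁, hc₁, c₂, hc₂, rfl⟩ := Submodule.mem_sup.1 hc
    obtain ⟨d, rfl⟩ := Ideal.mem_span_singleton.1 hc₂
    apply Subtype.ext
    show algebraMap A₀ R (c₁ + s * d) • (x : M) = 0
    have hx : sR • (x : M) = 0 := x.2
    rw [map_add, add_smul, hM c₁ hc₁, zero_add, map_mul, mul_comm, ← smul_smul, hx, smul_zero]
  · refine ih _ hlt (i - 1) (by omega) _ fun c hc x => ?_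
    obtain ⟨c₁, hc₁, c₂, hc₂, rfl⟩ := Submodule.mem_sup.1 hc
    obtain ⟨d, rfl⟩ := Ideal.mem_span_singleton.1 hc₂
    obtain ⟨y, rfl⟩ := Submodule.mkQ_surjective _ x
    rw [← map_smul, Submodule.mkQ_apply, Submodule.Quotient.mk_eq_zero]
    refine ⟨algebraMap A₀ R d • y, ?_⟩
    show sR • algebraMap A₀ R d • y = _
    rw [map_add, add_smul, hM c₁ hc₁, zero_add, smul_smul, ← map_mul]
  let Rs := Localization.Away sR
  let I : Ideal Rs := J.map (algebraMap A₀ Rs)
  let C := Rs ⧸ I
  let Ms : Type u := Rs ⊗[R] M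
  have hkill : Module.IsTorsionBySet Rs Ms (I : Set Rs) := by
    intro x c
    obtain ⟨c, hc⟩ := c
    show c • x = 0
    refine Submodule.span_induction (p := fun c _ => c • x = 0) ?_ (zero_smul _ _)
      (fun a b _ _ ha hb => by rw [add_smul, ha, hb, add_zero])
      (fun r a _ ha => by rw [smul_eq_mul, mul_smul, ha, smul_zero]) hc
    rintro _ ⟨a, ha, rfl⟩
    rw [IsScalarTower.algebraMap_apply A₀ R Rs a, algebraMap_smul Rs (algebraMap A₀ R a) x]
    induction x using TensorProduct.induction_on with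
    | zero => rw [smul_zero]
    | tmul r m => rw [← TensorProduct.tmul_smul, hM a ha, TensorProduct.tmul_zero]
    | add y z hy hz => rw [smul_add, hy, hz, add_zero]
  letI : Module C Ms := hkill.module
  haveI : IsScalarTower R C Ms := hkill.isScalarTower
  refine van_of_cover (C := C) P i B (fun j => ?_) hcov (hB i hi) Ms
  have hker : J ≤ RingHom.ker (algebraMap A₀ C) := fun a ha => by
    rw [RingHom.mem_ker, IsScalarTower.algebraMap_apply A₀ Rs C]
    exact Ideal.Quotient.eq_zero_iff_mem.2 (Ideal.mem_map_of_mem _ ha)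
  let g : A₀ ⧸ J →+* C := Ideal.Quotient.lift J (algebraMap A₀ C) hker
  have hgu : IsUnit (g (Ideal.Quotient.mk J s)) := by
    show IsUnit (algebraMap A₀ C s)
    rw [IsScalarTower.algebraMap_apply A₀ Rs C, IsScalarTower.algebraMap_apply A₀ R Rs]
    exact (IsLocalization.Away.algebraMap_isUnit sR).map _
  let C₀ := Localization.Away (Ideal.Quotient.mk J s)
  let g' : C₀ →+* C := IsLocalization.Away.lift (Ideal.Quotient.mk J s) hgu
  letI : Algebra C₀ C := g'.toAlgebra
  haveI : IsScalarTower A₀ C₀ C := IsScalarTower.of_algebraMap_eq fun a => by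
    show algebraMap A₀ C a = g' (algebraMap A₀ C₀ a)
    rw [IsScalarTower.algebraMap_apply A₀ (A₀ ⧸ J) C₀]
    exact (IsLocalization.Away.lift_eq (Ideal.Quotient.mk J s) hgu (Ideal.Quotient.mk J a)).symm
  haveI h1 : Module.Flat C₀ (C₀ ⊗[A₀ ⧸ J] ((A₀ ⧸ J) ⊗[A₀] B₀ j)) := hflat j
  haveI : Module.Flat C₀ (C₀ ⊗[A₀] B₀ j) :=
    Module.Flat.of_linearEquiv (AlgebraTensorModule.cancelBaseChange A₀ (A₀ ⧸ J) C₀ C₀ (B₀ j)).symm
  haveI : Module.Flat C (C ⊗[A₀] B₀ j) :=
    Module.Flat.of_linearEquiv (AlgebraTensorModule.cancelBaseChange A₀ C₀ C C (B₀ j)).symm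
  exact Module.Flat.of_linearEquiv
    ((AlgebraTensorModule.congr (LinearEquiv.refl C C) (e j).some.toLinearEquiv.symm).trans
      (AlgebraTensorModule.cancelBaseChange A₀ R C C (B₀ j)))

end TorDescLib
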